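import Cfsg.Agent.CoreChain59.Data

/-!
The kernel checks for the root sets of the iterated cores in E₈(2).
-/

set_option autoImplicit false

namespace Cfsg.Agent.CoreChain59

open Cfsg.Lie Cfsg.Agent.ChevCore

/-- a commutator with a single term and coefficient one or minus one -/
noncomputable def singleB (u : ℕ) (L : List (ℕ × ℤ × ℕ × ℕ)) : Bool :=
  decide (L = [(u, 1, 1, 1)]) || decide (L = [(u, -1, 1, 1)])

/-- the root reached from `r` by the fundamental root `j` -/
noncomputable def tgt (j r : ℕ) : Option ℕ :=
  (commW (std chevE8) (chevE8.simple j) r).head?.map Prod.fst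

/-- the predecessor of `u` under the fundamental root `j` -/
noncomputable def pre (j u : ℕ) : Option ℕ :=
  (commW (std chevE8) (chevE8.neg (chevE8.simple j)) u).head?.map Prod.fst

/-- the raising certificate -/
noncomputable def raiseB : Bool :=
  kallUpTo 8 fun j => kallUpTo chevE8.nroots fun r => !Nat.ble 120 r ||
    match tgt j r with
    | none => decide (commW (std chevE8) (chevE8.simple j) r = [])
    | some u => singleB u (commW (std chevE8) (chevE8.simple j) r) && decide (pre j u = some r)

/-- only the highest root cannot be raised -/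
noncomputable def liftB : Bool :=
  kallUpTo chevE8.nroots fun r => !Nat.ble 120 r || Nat.beq r 239 ||
    kanyUpTo 8 fun j => (tgt j r).isSome

/-- positivity of the roots and the roots of the parabolic -/
noncomputable def posB : Bool :=
  kallUpTo chevE8.nroots fun r => decide (Nat.ble 120 r = true ↔ 1 ≤ ht chevE8 r)

/-- one step of the descent from the highest root: roots `q`, old root, new root -/
noncomputable def stepB (conj : Bool) (e : ℕ × ℕ × ℕ) : Bool :=
  parB (bif conj then chevE8.reflectRoot node e.1 else e.1) && decide (e.1 < chevE8.nroots) &&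
    decide (e.2.1 < chevE8.nroots) && decide (e.2.2 < chevE8.nroots) && !Nat.beq e.2.1 e.1 &&
    !Nat.beq e.2.1 (chevE8.neg e.1) && singleB e.2.2 (commW (std chevE8) e.1 e.2.1)

theorem raise_ok : raiseB = true := by decide +kernel

theorem lift_ok : liftB = true := by decide +kernel

theorem pos_ok : posB = true := by decide +kernel

theorem stable_ok : ∀ i ∈ [1, 2, 3, 4, 5], stableB (rootList i) = true := by
  simp only [List.mem_cons, List.not_mem_nil, or_false, forall_eq_or_imp, forall_eq]
  refine ⟨?_, ?_, ?_, ?_, ?_⟩ <;> decide +kernel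

theorem lt_ok : ∀ i ∈ [1, 2, 3, 4, 5], (rootList i).all (fun s => decide (s < chevE8.nroots)) = true := by
  simp only [List.mem_cons, List.not_mem_nil, or_false, forall_eq_or_imp, forall_eq]
  refine ⟨?_, ?_, ?_, ?_, ?_⟩ <;> decide +kernel

theorem nest_one : (rootList 1).all (fun s => parB s && parB (chevE8.reflectRoot node s)) = true := by
  decide +kernel

theorem nest_ok : ∀ i ∈ [1, 2, 3, 4], (rootList (i + 1)).all (fun s => memB (rootList i) s &&
    memB (rootList i) (chevE8.reflectRoot node s)) = true := by
  simp only [List.mem_cons, List.not_mem_nil, or_false, forall_eq_or_imp, forall_eq]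
  refine ⟨?_, ?_, ?_, ?_⟩ <;> decide +kernel

theorem steps_ok :
    [(110, 239, 235)].all (stepB false) = true ∧
    [(75, 235, 225), (97, 225, 223)].all (stepB true) = true ∧
    [(110, 223, 219), (104, 219, 214)].all (stepB false) = true ∧
    [(106, 214, 204), (97, 204, 188)].all (stepB true) = true ∧
    [(76, 188, 156), (112, 156, 152)].all (stepB false) = true ∧
    [(97, 152, 137), (103, 137, 126), (108, 126, 109)].all (stepB true) = true := by
  refine ⟨?_, ?_, ?_, ?_, ?_, ?_⟩ <;> decide +kernel

theorem top_root : (239 : ℕ) < chevE8.nroots ∧ chevE8.neg (chevE8.simple node) = 109 ∧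
    chevE8.reflectRoot node 130 = 109 ∧ chevE8.simple node = 130 ∧ ht chevE8 239 = maxHt chevE8 ∧
    chevE8.rank = 8 := by
  refine ⟨?_, ?_, ?_, ?_, ?_, ?_⟩ <;> decide +kernel

end Cfsg.Agent.CoreChain59
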