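import Cfsg.Agent.Lib.ChevCore.Parabolic
import Cfsg.Agent.Chev54.ParFit

/-!
Certificates for the iterated cores of two adjacent conjugates of a maximal parabolic subgroup of E₈(2).
-/

set_option autoImplicit false

namespace Cfsg.Agent.CoreChain59

open Cfsg.Lie Cfsg.Agent.ChevCore

/-- the node with coefficient six in the highest root -/
def node : ℕ := 3

/-- the fundamental roots generating the Levi subgroup -/
def JJ : Set ℕ := {i | i ≠ node}

/-- the root sets of the iterated cores -/
def rootList : ℕ → List ℕ
  | 1 => [152, 153, 154, 155, 156, 157, 158, 159, 160, 161, 174, 175, 176, 177, 178, 179, 180, 181, 182, 183, 184, 185, 186, 187, 188, 189, 190, 191, 192, 193, 194, 195, 196, 197, 198, 199, 200, 201, 202, 203, 204, 205, 206, 207, 208, 209, 210, 211, 212, 213, 214, 215, 216, 217, 218, 219, 220, 221, 222, 223, 224, 225, 226, 227, 228, 229, 230, 231, 232, 233, 234, 235, 236, 237, 238, 239]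
  | 2 => [194, 195, 196, 197, 198, 199, 200, 201, 202, 203, 204, 205, 206, 207, 208, 209, 210, 211, 212, 213, 214, 215, 216, 217, 218, 219, 220, 221, 222, 223, 224, 225, 226, 227, 228, 229, 230, 231, 232, 233, 234, 235, 236, 237, 238, 239]
  | 3 => [214, 215, 216, 217, 218, 219, 220, 221, 222, 223, 224, 225, 226, 227, 228, 229, 230, 231, 232, 233, 234, 235, 236, 237, 238, 239]
  | 4 => [224, 225, 231, 232, 233, 234, 235, 236, 237, 238, 239]
  | 5 => [235, 236, 237, 238, 239]
  | _ => []

/-- membership of a root in the parabolic -/
noncomputable def parB (r : ℕ) : Bool :=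
  Nat.ble 120 r || decide (coef chevE8 r node = 0)

/-- membership in a list, for the kernel -/
noncomputable def memB (L : List ℕ) (s : ℕ) : Bool := List.rec false (fun a _ acc => Nat.beq a s || acc) L

theorem memB_iff (L : List ℕ) (s : ℕ) : memB L s = true ↔ s ∈ L := by
  induction L with
  | nil => simp [memB]
  | cons a L ih =>
    have h : memB (a :: L) s = (Nat.beq a s || memB L s) := rfl
    rw [h, Bool.or_eq_true, ih, List.mem_cons, Nat.beq_eq]
    exact or_congr_left eq_comm

/-- a root set is stable under the roots of the parabolic -/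
noncomputable def stableB (L : List ℕ) : Bool :=
  kallUpTo chevE8.nroots fun r => !parB r || L.all fun s =>
    !Nat.beq s (chevE8.neg r) &&
      (Nat.beq s r || (commW (std chevE8) r s).all fun c => memB L c.1)

end Cfsg.Agent.CoreChain59
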