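import Cfsg.Agent.CoreChain59.Top

/-!
The iterated cores of two adjacent conjugates of a maximal parabolic subgroup of E₈(2): the sixth is the
first trivial one.
-/

set_option autoImplicit false

namespace Cfsg.Agent.CoreChain59

open Cfsg.Lie Cfsg.Agent.ChevCore

attribute [local irreducible] chevE8

section abstract

variable {G : Type*} [Group G]

/-- the core of `Y` in `M` -/
def cor (M Y : Subgroup G) : Subgroup G := (Y.subgroupOf M).normalCore.map M.subtype

theorem mem_cor {M Y : Subgroup G} {x : G} :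
    x ∈ cor M Y ↔ x ∈ M ∧ ∀ m ∈ M, m * x * m⁻¹ ∈ Y := by
  constructor
  · rintro ⟨a, ha, rfl⟩
    exact ⟨a.2, fun m hm => ha ⟨m, hm⟩⟩
  · rintro ⟨hx, h⟩
    exact ⟨⟨x, hx⟩, fun b => h b.1 b.2, rfl⟩

theorem cor_le {M Y : Subgroup G} {x : G} (h : x ∈ cor M Y) : x ∈ Y := by
  simpa using (mem_cor.1 h).2 1 (one_mem M)

theorem cor_conj {M Y : Subgroup G} {x m : G} (h : x ∈ cor M Y) (hm : m ∈ M) :
    m * x * m⁻¹ ∈ cor M Y := by
  obtain ⟨hx, h⟩ := mem_cor.1 h
  refine mem_cor.2 ⟨mul_mem (mul_mem hm hx) (inv_mem hm), fun b hb => ?_⟩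
  simpa [mul_assoc] using h (b * m) (mul_mem hb hm)

/-- the two descending sequences -/
def seq (M₁ M₂ : Subgroup G) : ℕ → Subgroup G × Subgroup G
  | 0 => (M₁, M₂)
  | i + 1 => (cor M₁ ((seq M₁ M₂ i).1 ⊓ (seq M₁ M₂ i).2),
      cor M₂ ((seq M₁ M₂ i).1 ⊓ (seq M₁ M₂ i).2))

theorem mem_two_of_le {H : Subgroup G} {S : Subgroup G} {I : Subgroup ↥H} {g : ↥H}
    (hle : S ≤ (I ⊓ I.comap (MulAut.conj g).toMonoidHom).map H.subtype) {y : ↥H}
    (hy : (y : G) ∈ S) : y ∈ I ∧ g * y * g⁻¹ ∈ I := by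
  obtain ⟨z, hz, e⟩ := hle hy
  obtain rfl : z = y := Subtype.ext e
  exact Subgroup.mem_inf.1 hz

theorem mem_map_two {H : Subgroup G} {I : Subgroup ↥H} {g r r' : ↥H} {x : G} (hx : (r : G) = x)
    (h1 : r ∈ I) (h2 : r' ∈ I) (e : g * r * g⁻¹ = r') :
    x ∈ (I ⊓ I.comap (MulAut.conj g).toMonoidHom).map H.subtype :=
  ⟨r, Subgroup.mem_inf.2 ⟨h1, show g * r * g⁻¹ ∈ I from e.symm ▸ h2⟩, hx⟩

end abstract

theorem ng_mem_group : nw chevE8 K [node] ∈ chevE8.group K := by
  have hp := hG.simple_lt node_lt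
  refine list_prod_mem fun y hy => ?_
  obtain ⟨i, hi, rfl⟩ := List.mem_map.1 hy
  exact mul_mem (mul_mem (hG.xg_mem_group _ _) (hG.xg_mem_group _ _)) (hG.xg_mem_group _ _)

theorem xg_eq (r : ℕ) {t : K} (ht : t ≠ 0) : xg chevE8 K r t = xr r := by
  rw [zmod_two_one ht]

theorem conj_node {s : ℕ} (hs : s < chevE8.nroots) :
    nw chevE8 K [node] * xr s * (nw chevE8 K [node])⁻¹ = xr (chevE8.reflectRoot node s) :=
  conj_xr (fun i hi => by rw [List.mem_singleton.1 hi]; exact node_lt) hs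

theorem conj_node_inv {s : ℕ} (hs : s < chevE8.nroots) :
    (nw chevE8 K [node])⁻¹ * xr s * nw chevE8 K [node] = xr (chevE8.reflectRoot node s) := by
  have h := conj_node (hG.refl_lt node_lt hs)
  rw [hG.refl_refl node_lt hs] at h
  rw [← h]; group

theorem par_le_group : Par ≤ chevE8.group K :=
  (normalizer_radical_mem (F := K) mem_data JJ).ge.trans inf_le_right

/-- the root element of the negative of the node is outside the parabolic -/
theorem xr_neg_not_mem : xr 109 ∉ Par := by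
  intro h
  have hs := chkSupp_of_mem mem_data
  have hp := hG.simple_lt node_lt
  have h1 : xr (chevE8.simple node) ∈ Par :=
    (le_sup_left : chevE8.borelSubgroup K ≤ Par)
      (hG.xg_mem_borel hp (by rw [hG.ht_simple node_lt]) 1)
  have hng : nw chevE8 K [node] ∈ Par := by
    refine list_prod_mem fun y hy => ?_
    obtain ⟨i, hi, rfl⟩ := List.mem_map.1 hy
    rw [List.mem_singleton.1 hi]
    have h2 : xg chevE8 K (chevE8.neg (chevE8.simple node)) (-1⁻¹ : K) ∈ Par := by
      rw [top_root.2.1, show (-1⁻¹ : K) = 1 from by rw [inv_one]; decide]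
      exact h
    exact mul_mem (mul_mem h1 h2) h1
  have hred : RedW chevE8 [node] := by
    refine ⟨?_, trivial⟩
    show 0 < ht chevE8 (chevE8.simple node)
    rw [hG.ht_simple node_lt]; exact zero_lt_one
  exact hC.word_in_J hs JJ [node] (fun i hi => by rw [List.mem_singleton.1 hi]; exact node_lt) hred
    (hC.parabolic_le_normalizer hs JJ hng) node (List.mem_singleton_self _) rfl

/-- the parabolic is a maximal subgroup -/
theorem par_maximal {X : Subgroup (GL chevE8.Idx K)} (hX : Par < X) (hle : X ≤ chevE8.group K) :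
    X = chevE8.group K := by
  refine le_antisymm hle ?_
  have hPX := hX.le
  obtain ⟨g, hgX, hgP⟩ := SetLike.exists_of_lt hX
  obtain ⟨b, hb, w, hw, hred, b', hb', rfl⟩ := exists_bruhat_mem mem_data (hle hgX)
  have hbP : chevE8.borelSubgroup K ≤ Par := le_sup_left
  have hwX : nw chevE8 K w ∈ X := by
    have := mul_mem (mul_mem (inv_mem (hPX (hbP hb))) hgX) (inv_mem (hPX (hbP hb')))
    simpa [mul_assoc] using this
  have hpX : ∀ r, r < chevE8.nroots → 1 ≤ ht chevE8 r → ∀ t : K, xg chevE8 K r t ∈ X :=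
    fun r hr h t => hPX (hbP (hG.xg_mem_borel hr h t))
  have key : ∀ v : List ℕ, (∀ i ∈ v, i < chevE8.rank) → RedW chevE8 v → nw chevE8 K v ∈ X →
      (∀ i ∈ v, i ∈ JJ) ∨ xr (chevE8.neg (chevE8.simple node)) ∈ X := by
    intro v
    induction v with
    | nil => exact fun _ _ _ => Or.inl fun i hi => absurd hi List.not_mem_nil
    | cons i u ih =>
      intro hv hr hn
      have hu : ∀ a ∈ u, a < chevE8.rank := fun a ha => hv a (List.mem_cons_of_mem _ ha)
      have hi : i < chevE8.rank := hv i (List.mem_cons_self ..)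
      by_cases hik : i = node
      · subst hik
        refine Or.inr ?_
        have hp := hG.simple_lt hi
        have hur : ∀ a ∈ u.reverse, a < chevE8.rank := fun a ha => hu a (List.mem_reverse.1 ha)
        have hrl := hG.actW_lt hur hp
        have := mul_mem (mul_mem hn (hpX _ hrl (by have := hr.1; omega) 1)) (inv_mem hn)
        rw [conj_xr hv hrl, actW_cons, hG.actW_reverse hu hp, hG.refl_simple hi] at this
        exact this
      · have hni : nw chevE8 K [i] ∈ X :=
          hPX (hG.nw_mem_parabolic fun a ha => by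
            rw [List.mem_singleton.1 ha]; exact ⟨hi, hik⟩)
        have hnu : nw chevE8 K u ∈ X := by
          have e : nw chevE8 K (i :: u) = nw chevE8 K [i] * nw chevE8 K u := by simp [nw]
          rw [e] at hn
          exact (Subgroup.mul_mem_cancel_left X hni).1 hn
        rcases ih hu hr.2 hnu with h | h
        · exact Or.inl fun a ha => (List.mem_cons.1 ha).elim (fun e => e ▸ hik) (h a)
        · exact Or.inr h
  have hneg : xr (chevE8.neg (chevE8.simple node)) ∈ X := by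
    refine (key w hw hred hwX).resolve_left fun h => hgP ?_
    exact mul_mem (mul_mem (hbP hb) (hG.nw_mem_parabolic fun a ha => ⟨hw a ha, h a ha⟩)) (hbP hb')
  have hng : ∀ i < chevE8.rank, nw chevE8 K [i] ∈ X := by
    intro i hi
    by_cases hik : i = node
    · subst hik
      have hp := hG.simple_lt hi
      have h1 : xr (chevE8.simple node) ∈ X := hpX _ hp (by rw [hG.ht_simple hi]) 1
      refine list_prod_mem fun y hy => ?_
      obtain ⟨a, ha, rfl⟩ := List.mem_map.1 hy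
      rw [List.mem_singleton.1 ha]
      have h2 : xg chevE8 K (chevE8.neg (chevE8.simple node)) (-1⁻¹ : K) ∈ X := by
        rw [show (-1⁻¹ : K) = 1 from by rw [inv_one]; decide]; exact hneg
      exact mul_mem (mul_mem h1 h2) h1
    · exact hPX (hG.nw_mem_parabolic fun a ha => by rw [List.mem_singleton.1 ha]; exact ⟨hi, hik⟩)
  have hnwX : ∀ v : List ℕ, (∀ i ∈ v, i < chevE8.rank) → nw chevE8 K v ∈ X := fun v hv =>
    list_prod_mem fun y hy => by
      obtain ⟨i, hi, rfl⟩ := List.mem_map.1 hy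
      simpa [nw] using hng i (hv i hi)
  rw [hG.group_eq]
  refine XS_le fun r t hr _ => ?_
  obtain ⟨v, hv, i, hi, rfl⟩ := hG.exists_word hr
  by_cases ht : t = 0
  · rw [ht, hG.xg_zero]; exact one_mem X
  rw [xg_eq _ ht, ← conj_xr hv (hG.simple_lt hi)]
  exact mul_mem (mul_mem (hnwX v hv) (hpX _ (hG.simple_lt hi) (by rw [hG.ht_simple hi]) 1))
    (inv_mem (hnwX v hv))

/-- the ambient group -/
abbrev E : Type := ↥(chevE8.group K)

/-- the first maximal subgroup -/
noncomputable def M1 : Subgroup E := (chevE8.parabolicSubgroup K JJ).subgroupOf (chevE8.group K)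

/-- the conjugating element -/
noncomputable def ge : E := ⟨nw chevE8 K [node], ng_mem_group⟩

/-- the second maximal subgroup -/
noncomputable def M2 : Subgroup E := M1.map (MulAut.conj ge).toMonoidHom

/-- a root element in the group -/
noncomputable def X (r : ℕ) : E := ⟨xg chevE8 K r 1, hG.xg_mem_group r 1⟩

theorem val_X (r : ℕ) : (X r : GL chevE8.Idx K) = xr r := rfl

theorem mem_M2 {y : E} : y ∈ M2 ↔ ge⁻¹ * y * ge ∈ M1 := by
  constructor
  · rintro ⟨z, hz, rfl⟩
    simpa [mul_assoc] using hz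
  · exact fun h => ⟨_, h, by simp [mul_assoc]⟩

theorem conj_ge {s : ℕ} (hs : s < chevE8.nroots) :
    ge * X s * ge⁻¹ = X (chevE8.reflectRoot node s) := Subtype.ext (conj_node hs)

theorem conj_ge_inv {s : ℕ} (hs : s < chevE8.nroots) :
    ge⁻¹ * X s * ge = X (chevE8.reflectRoot node s) := Subtype.ext (conj_node_inv hs)

theorem M1_ne_top : M1 ≠ ⊤ := fun h => xr_neg_not_mem
  (show (X 109 : GL chevE8.Idx K) ∈ Par from (show X 109 ∈ M1 from h ▸ Subgroup.mem_top _))

theorem M1_coatom : IsCoatom M1 := by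
  refine ⟨M1_ne_top, fun Y hY => ?_⟩
  have hlt : Par < Y.map (chevE8.group K).subtype := by
    refine lt_of_le_of_ne (fun x hx => ⟨⟨x, par_le_group hx⟩, hY.le hx, rfl⟩) fun e => ?_
    refine hY.not_ge fun y hy => ?_
    show (y : GL chevE8.Idx K) ∈ Par
    rw [e]
    exact ⟨y, hy, rfl⟩
  have h := par_maximal hlt (Subgroup.map_subtype_le _)
  rw [eq_top_iff]
  intro y _
  obtain ⟨z, hz, e⟩ := h.ge y.2
  exact Subtype.ext e ▸ hz

/-- a move along a commutator keeps us inside -/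
theorem move {Y : Subgroup E} {q o u : ℕ} {b : Bool} (h : stepB b (q, o, u) = true)
    (hY : ∀ m, (bif b then m ∈ M2 else m ∈ M1) → ∀ y ∈ Y, m * y * m⁻¹ ∈ Y) (ho : X o ∈ Y) :
    X u ∈ Y := by
  simp only [stepB, Bool.and_eq_true, decide_eq_true_eq, Bool.not_eq_true'] at h
  obtain ⟨⟨⟨⟨⟨⟨hpar, hq⟩, hol⟩, -⟩, h1⟩, h2⟩, hW⟩ := h
  have hm : bif b then X q ∈ M2 else X q ∈ M1 := by
    cases b with
    | false => exact xr_mem_par hq hpar
    | true =>
      show X q ∈ M2
      rw [mem_M2, conj_ge_inv hq]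
      exact xr_mem_par (hG.refl_lt node_lt hq) hpar
  have hne : ∀ {a c : ℕ}, Nat.beq a c = false → a ≠ c := fun h e => by
    rw [e, Nat.beq_refl] at h; exact Bool.noConfusion h
  have key : X q * X o * (X q)⁻¹ = X o * X u := Subtype.ext (by
    show xr q * xr o * (xr q)⁻¹ = xr o * xr u
    have := word_single hq hol (hne h1) (hne h2) hW 1
    rwa [xr_inv] at this ⊢)
  have := mul_mem (inv_mem ho) (hY _ hm _ ho)
  rwa [key, inv_mul_cancel_left] at this

/-- several moves -/
theorem moves {Y : Subgroup E} {b : Bool}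
    (hY : ∀ m, (bif b then m ∈ M2 else m ∈ M1) → ∀ y ∈ Y, m * y * m⁻¹ ∈ Y) :
    ∀ {q o u : ℕ}, stepB b (q, o, u) = true → X o ∈ Y → X u ∈ Y :=
  fun h ho => move h hY ho

/-- two trajectories from the highest root: one in a core, the other in a normal subgroup -/
theorem descent (A B : ℕ → Subgroup E) (hA : ∀ i, ∀ m ∈ M1, ∀ y ∈ A i, m * y * m⁻¹ ∈ A i)
    (hB : ∀ i, ∀ m ∈ M2, ∀ y ∈ B i, m * y * m⁻¹ ∈ B i)
    (hAB : ∀ i, A (i + 1) ≤ B i) (hBA : ∀ i, B (i + 1) ≤ A i) (h : X 239 ∈ A 6) : X 109 ∈ A 0 := by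
  obtain ⟨s0, s1, s2, s3, s4, s5⟩ := steps_ok
  simp only [List.all_cons, List.all_nil, Bool.and_true, Bool.and_eq_true] at s0 s1 s2 s3 s4 s5
  have a6 := moves (b := false) (hA 6) s0 h
  have b5 := moves (b := true) (hB 5) s1.2 (moves (b := true) (hB 5) s1.1 (hAB 5 a6))
  have a4 := moves (b := false) (hA 4) s2.2 (moves (b := false) (hA 4) s2.1 (hBA 4 b5))
  have b3 := moves (b := true) (hB 3) s3.2 (moves (b := true) (hB 3) s3.1 (hAB 3 a4))
  have a2 := moves (b := false) (hA 2) s4.2 (moves (b := false) (hA 2) s4.1 (hBA 2 b3))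
  exact hBA 0 (moves (b := true) (hB 1) s5.2.2
    (moves (b := true) (hB 1) s5.2.1 (moves (b := true) (hB 1) s5.1 (hAB 1 a2))))

theorem seq_A_conj (i : ℕ) : ∀ m ∈ M1, ∀ y ∈ (seq M1 M2 i).1, m * y * m⁻¹ ∈ (seq M1 M2 i).1 := by
  cases i with
  | zero => exact fun m hm y hy => mul_mem (mul_mem hm hy) (inv_mem hm)
  | succ i => exact fun m hm y hy => cor_conj hy hm

theorem seq_B_conj (i : ℕ) : ∀ m ∈ M2, ∀ y ∈ (seq M1 M2 i).2, m * y * m⁻¹ ∈ (seq M1 M2 i).2 := by
  cases i with
  | zero => exact fun m hm y hy => mul_mem (mul_mem hm hy) (inv_mem hm)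
  | succ i => exact fun m hm y hy => cor_conj hy hm

theorem seq_le_M1 (i : ℕ) : (seq M1 M2 i).1 ≤ M1 := by
  cases i with
  | zero => exact le_rfl
  | succ i => exact fun y hy => (mem_cor.1 hy).1

/-- a nontrivial subgroup of the first parabolic normalised by it contains the highest root element -/
theorem top_mem_E {Y : Subgroup E} (hle : Y ≤ M1) (hn : ∀ m ∈ M1, ∀ y ∈ Y, m * y * m⁻¹ ∈ Y)
    (hne : Y ≠ ⊥) : X 239 ∈ Y := by
  obtain ⟨y, hy, hy1⟩ := Y.bot_or_exists_ne_one.resolve_left hne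
  have := top_mem (Y.map (chevE8.group K).subtype) (by rintro _ ⟨z, hz, rfl⟩; exact hle hz)
    (fun p hp => by
      rintro _ ⟨z, hz, rfl⟩
      exact ⟨_, hn ⟨p, par_le_group hp⟩ hp z hz, rfl⟩)
    (x := (y : GL chevE8.Idx K)) ⟨y, hy, rfl⟩ fun e => hy1 (Subtype.ext e)
  obtain ⟨z, hz, e⟩ := this
  rwa [show X 239 = z from Subtype.ext e.symm]

theorem A_six : (seq M1 M2 6).1 = ⊥ := by
  by_contra hne
  refine xr_neg_not_mem (descent (fun i => (seq M1 M2 i).1) (fun i => (seq M1 M2 i).2) seq_A_conj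
    seq_B_conj (fun i y hy => (Subgroup.mem_inf.1 (cor_le hy)).2)
    (fun i y hy => (Subgroup.mem_inf.1 (cor_le hy)).1)
    (top_mem_E (seq_le_M1 6) (seq_A_conj 6) hne) : X 109 ∈ M1)

theorem M1_core : M1.normalCore = ⊥ := by
  by_contra hne
  have hn : ∀ m : E, ∀ y ∈ M1.normalCore, m * y * m⁻¹ ∈ M1.normalCore := fun m y hy =>
    (Subgroup.normalCore_normal M1).conj_mem y hy m
  exact xr_neg_not_mem (Subgroup.normalCore_le M1
    (descent (fun _ => M1.normalCore) (fun _ => M1.normalCore) (fun _ m _ => hn m) (fun _ m _ => hn m)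
      (fun _ => le_rfl) (fun _ => le_rfl)
      (top_mem_E (Subgroup.normalCore_le M1) (fun m _ => hn m) hne)) : X 109 ∈ M1)

theorem rootList_lt {i s : ℕ} (hi : i ∈ [1, 2, 3, 4, 5]) (hs : s ∈ rootList i) : s < chevE8.nroots := by
  simpa using List.all_eq_true.1 (lt_ok i hi) s hs

/-- the parabolic normalises the root groups of the certified sets -/
theorem par_stable {i : ℕ} (hi : i ∈ [1, 2, 3, 4, 5]) :
    Par ≤ Subgroup.normalizer (XS chevE8 K {s | s ∈ rootList i} : Set (GL chevE8.Idx K)) := by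
  rw [show Par = _ from hG.parabolic_eq (chkSupp_of_mem mem_data) JJ]
  refine sup_le (hG.H_le_normalizer_XS _) (XS_le fun r t hr h => hC.xg_mem_normalizer hr (fun s hs hsS => ?_) t)
  have hcert := stable_ok i hi
  simp only [stableB, kallUpTo_iff] at hcert
  have hr' := hcert r hr
  rw [(parB_iff hr).2 h, Bool.not_true, Bool.false_or, List.all_eq_true] at hr'
  have := hr' s hsS
  simp only [Bool.and_eq_true, Bool.not_eq_true', Bool.or_eq_true, List.all_eq_true, memB_iff,
    Nat.beq_eq] at this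
  refine ⟨fun e => ?_, fun hne c hc => (this.2.resolve_left hne) c hc⟩
  rw [e, Nat.beq_refl] at this
  exact Bool.noConfusion this.1

/-- membership of the certified root groups in the cores -/
def Good' (i : ℕ) (s : ℕ) : Prop :=
  X s ∈ (seq M1 M2 i).1 ∧ X (chevE8.reflectRoot node s) ∈ (seq M1 M2 i).2

theorem good_step {i : ℕ} (hi : i + 1 ∈ [1, 2, 3, 4, 5])
    (h : ∀ s ∈ rootList (i + 1), Good' i s ∧ Good' i (chevE8.reflectRoot node s)) :
    ∀ s ∈ rootList (i + 1), Good' (i + 1) s := by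
  intro s hs
  have hsl := rootList_lt hi hs
  set S := XS chevE8 K {s | s ∈ rootList (i + 1)}
  have hboth : ∀ y : E, (y : GL chevE8.Idx K) ∈ S →
      y ∈ (seq M1 M2 i).1 ⊓ (seq M1 M2 i).2 ∧ ge * y * ge⁻¹ ∈ (seq M1 M2 i).1 ⊓ (seq M1 M2 i).2 := by
    intro y hy
    refine mem_two_of_le (I := (seq M1 M2 i).1 ⊓ (seq M1 M2 i).2) ?_ hy
    refine XS_le fun r t hr hrS => ?_
    by_cases ht : t = 0
    · rw [ht, hG.xg_zero]; exact one_mem _
    obtain ⟨⟨ha, hb⟩, ha', hb'⟩ := h r hrS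
    rw [hG.refl_refl node_lt hr] at hb'
    rw [xg_eq r ht]
    exact mem_map_two (r := X r) (val_X r) (Subgroup.mem_inf.2 ⟨ha, hb'⟩)
      (Subgroup.mem_inf.2 ⟨ha', hb⟩) (conj_ge hr)
  have hxs : xr s ∈ S := xg_mem_XS hsl hs 1
  have hnorm : ∀ m ∈ M1, ((m * X s * m⁻¹ : E) : GL chevE8.Idx K) ∈ S := fun m hm => by
    have := (Subgroup.mem_normalizer_iff.1 (par_stable hi (Subgroup.mem_subgroupOf.1 hm)) (xr s)).1 hxs
    rw [Subgroup.coe_mul, Subgroup.coe_mul, Subgroup.coe_inv]
    exact this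
  refine ⟨mem_cor.2 ⟨?_, fun m hm => (hboth _ (hnorm m hm)).1⟩, mem_cor.2 ⟨?_, fun m hm => ?_⟩⟩
  · exact seq_le_M1 i (Subgroup.mem_inf.1 (hboth (X s) hxs).1).1
  · rw [mem_M2, conj_ge_inv (hG.refl_lt node_lt hsl), hG.refl_refl node_lt hsl]
    exact seq_le_M1 i (Subgroup.mem_inf.1 (hboth (X s) hxs).1).1
  · have := (hboth _ (hnorm _ (mem_M2.1 hm))).2
    rw [← conj_ge hsl]
    convert this using 1
    group

theorem good_all : ∀ s ∈ rootList 5, Good' 5 s := by
  have base : ∀ s ∈ rootList 1, Good' 0 s ∧ Good' 0 (chevE8.reflectRoot node s) := by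
    intro s hs
    have hsl := rootList_lt (i := 1) (by simp) hs
    have := List.all_eq_true.1 nest_one s hs
    simp only [Bool.and_eq_true] at this
    have key : ∀ r, r < chevE8.nroots → parB r = true →
        X r ∈ M1 ∧ X (chevE8.reflectRoot node r) ∈ M2 := fun r hr hp => by
      refine ⟨xr_mem_par hr hp, ?_⟩
      rw [mem_M2, conj_ge_inv (hG.refl_lt node_lt hr), hG.refl_refl node_lt hr]
      exact xr_mem_par hr hp
    exact ⟨key s hsl this.1, key _ (hG.refl_lt node_lt hsl) this.2⟩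
  have nest : ∀ i, i ∈ [1, 2, 3, 4] → (∀ s ∈ rootList i, Good' i s) →
      ∀ s ∈ rootList (i + 1), Good' (i + 1) s := by
    intro i hi h
    refine good_step ?_ fun s hs => ?_
    · simp at hi ⊢; omega
    · have := List.all_eq_true.1 (nest_ok i hi) s hs
      simp only [Bool.and_eq_true, memB_iff] at this
      exact ⟨h s this.1, h _ this.2⟩
  exact nest 4 (by simp) (nest 3 (by simp) (nest 2 (by simp) (nest 1 (by simp)
    (good_step (i := 0) (by simp) base))))

theorem A_five : (seq M1 M2 5).1 ≠ ⊥ := fun h => by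
  have := (good_all 239 (by simp [rootList])).1
  rw [h, Subgroup.mem_bot] at this
  exact xr_ne_one top_root.1 (congrArg Subtype.val this)

theorem M1_ne_M2 : M1 ≠ M2 := fun h => xr_neg_not_mem (by
  have : X 109 ∈ M2 := by
    rw [mem_M2, conj_ge_inv (by rw [← top_root.2.1]; exact hG.neg_lt (hG.simple_lt node_lt))]
    refine xr_mem_par (hG.refl_lt node_lt
      (by rw [← top_root.2.1]; exact hG.neg_lt (hG.simple_lt node_lt))) ?_
    rw [← top_root.2.2.1, hG.refl_refl node_lt (by rw [← top_root.2.2.2.1]; exact hG.simple_lt node_lt)]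
    decide +kernel
  rw [← h] at this
  exact this)

theorem exists_example : ∃ (G : Type) (_ : Group G) (_ : Finite G) (M₁ M₂ : Subgroup G) (g : G)
    (A B : ℕ → Subgroup G),
      IsCoatom M₁ ∧ M₂ = M₁.map (MulAut.conj g).toMonoidHom ∧ M₁ ≠ M₂ ∧ M₁.normalCore = ⊥ ∧
      A 0 = M₁ ∧ B 0 = M₂ ∧
      (∀ i, A (i + 1) = ((A i ⊓ B i).subgroupOf M₁).normalCore.map M₁.subtype) ∧
      (∀ i, B (i + 1) = ((A i ⊓ B i).subgroupOf M₂).normalCore.map M₂.subtype) ∧
      A 6 = ⊥ ∧ A 5 ≠ ⊥ :=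
  ⟨E, inferInstance, inferInstance, M1, M2, ge, fun i => (seq M1 M2 i).1, fun i => (seq M1 M2 i).2,
    M1_coatom, rfl, M1_ne_M2, M1_core, rfl, rfl, fun _ => rfl, fun _ => rfl, A_six, A_five⟩

end Cfsg.Agent.CoreChain59
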