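import Cfsg.Agent.CoreChain59.Cert

/-!
A non-trivial subgroup of the parabolic of E₈(2), normalised by it, contains the highest root element.
-/

set_option autoImplicit false

namespace Cfsg.Agent.CoreChain59

open Cfsg.Lie Cfsg.Agent.ChevCore Cfsg.Agent.Chev54

attribute [local irreducible] chevE8

/-- the field with two elements -/
abbrev K := ZMod 2

/-- the parabolic subgroup of the node -/
noncomputable abbrev Par : Subgroup (GL chevE8.Idx K) := chevE8.parabolicSubgroup K JJ

/-- the root element with parameter one -/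
noncomputable abbrev xr (r : ℕ) : GL chevE8.Idx K := xg chevE8 K r 1

theorem mem_data : chevE8 ∈ [chevG2, chevB2, chevD4, chevF4, chevE6, chevE7, chevE8] := by simp

theorem hU : UGood chevE8 := uGood_of_mem mem_data

theorem hC : CommGood chevE8 := hU.toCommGood

theorem hG : Good chevE8 := hC.toGood

theorem node_lt : node < chevE8.rank := by
  rw [top_root.2.2.2.2.2]; exact (by decide : node < 8)

theorem pos_iff {r : ℕ} (hr : r < chevE8.nroots) : 120 ≤ r ↔ 1 ≤ ht chevE8 r := by
  have h := pos_ok
  simp only [posB, kallUpTo_iff, decide_eq_true_eq] at h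
  simpa using h r hr

theorem parB_iff {r : ℕ} (hr : r < chevE8.nroots) : parB r = true ↔ r ∈ parJ chevE8 JJ := by
  simp only [parB, Bool.or_eq_true, Nat.ble_eq, decide_eq_true_eq, pos_iff hr, parJ, subJ, JJ,
    Set.mem_setOf_eq, not_not, ne_eq]
  exact or_congr_right ⟨fun h i _ hi => hi ▸ h, fun h => h node node_lt rfl⟩

theorem zmod_two_one {t : K} (h : t ≠ 0) : t = 1 := by
  revert t; decide

theorem cast_unit {z : ℤ} (h : z * z = 1) : (z : K) = 1 := by
  refine zmod_two_one fun h0 => ?_
  have := congrArg (fun a : ℤ => (a : K)) h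
  simp [h0] at this

theorem conj_xr {w : List ℕ} (hw : ∀ i ∈ w, i < chevE8.rank) {s : ℕ} (hs : s < chevE8.nroots) :
    nw chevE8 K w * xr s * (nw chevE8 K w)⁻¹ = xr (actW chevE8 w s) := by
  rw [xr, hG.nw_conj_x hw hs, mul_one, cast_unit (Good.etaWord_sq _ _)]

theorem xr_inv (r : ℕ) : (xr r)⁻¹ = xr r := by
  rw [xr, hG.xg_inv]
  exact congrArg _ (by decide)

theorem xr_ne_one {r : ℕ} (hr : r < chevE8.nroots) : xr r ≠ 1 := fun e =>
  one_ne_zero (hG.xg_injective hr (show xr r = xg chevE8 K r 0 by rw [e, hG.xg_zero]))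

theorem xr_mem_par {r : ℕ} (hr : r < chevE8.nroots) (h : parB r = true) : xr r ∈ Par := by
  rw [show Par = _ from hG.parabolic_eq (chkSupp_of_mem mem_data) JJ]
  exact Subgroup.mem_sup_right (xg_mem_XS hr ((parB_iff hr).1 h) 1)

section generic

variable {D : ChevalleyDatum} {F : Type*} [Field F]

theorem wordG_single {r s u : ℕ} {z : ℤ} (h : commW (std D) r s = [(u, z, 1, 1)]) (t v : F) :
    wordG D F (D.commWord F r s t v) = xg D F u ((z : F) * (-t) * v) := by
  have e : D.commTerms r s = [(u, z, 1, 1)] := h
  simp [ChevalleyDatum.commWord, e, wordG]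

theorem wordG_nil {r s : ℕ} (h : commW (std D) r s = []) (t v : F) :
    wordG D F (D.commWord F r s t v) = 1 := by
  have e : D.commTerms r s = [] := h
  simp [ChevalleyDatum.commWord, e, wordG]

end generic

theorem singleB_elim {u : ℕ} {L : List (ℕ × ℤ × ℕ × ℕ)} (h : singleB u L = true) :
    ∃ z : ℤ, L = [(u, z, 1, 1)] ∧ (z : K) = 1 := by
  simp only [singleB, Bool.or_eq_true, decide_eq_true_eq] at h
  rcases h with h | h
  · exact ⟨1, h, Int.cast_one⟩
  · exact ⟨-1, h, cast_unit (by norm_num)⟩

/-- a commutator of root elements with a single term -/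
theorem word_single {q o u : ℕ} (hq : q < chevE8.nroots) (ho : o < chevE8.nroots) (h1 : o ≠ q)
    (h2 : o ≠ chevE8.neg q) (h : singleB u (commW (std chevE8) q o) = true) (t : K) :
    (xr q)⁻¹ * xg chevE8 K o t * xr q =
      xg chevE8 K o t * xg chevE8 K u t := by
  obtain ⟨z, hz, hz1⟩ := singleB_elim h
  have key : wordG chevE8 K (chevE8.commWord K q o 1 t) = xg chevE8 K u t := by
    rw [wordG_single hz, hz1, one_mul, show (-1 : K) = 1 from by decide, one_mul]
  rw [mul_assoc, hC.xg_comm hq ho h1 h2, key, mul_assoc (xg chevE8 K q 1), inv_mul_cancel_left]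

/-- the layer map of the commutator with a fundamental root element -/
noncomputable def Lmap (j : ℕ) (d : ℕ → K) : ℕ → K := fun u =>
  match pre j u with
  | none => 0
  | some r => if r < chevE8.nroots ∧ 120 ≤ r ∧ tgt j r = some u then d r else 0

theorem Lmap_add (j : ℕ) (d d' : ℕ → K) : Lmap j (d + d') = Lmap j d + Lmap j d' := by
  funext u
  simp only [Pi.add_apply, Lmap]
  cases pre j u with
  | none => simp
  | some r => by_cases h : r < chevE8.nroots ∧ 120 ≤ r ∧ tgt j r = some u <;> simp [h]

theorem raise_facts {j r : ℕ} (hj : j < 8) (hr : r < chevE8.nroots) (hp : 120 ≤ r) :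
    (tgt j r = none ∧ commW (std chevE8) (chevE8.simple j) r = []) ∨
      ∃ u, tgt j r = some u ∧ singleB u (commW (std chevE8) (chevE8.simple j) r) = true ∧
        pre j u = some r := by
  have h := raise_ok
  simp only [raiseB, kallUpTo_iff] at h
  have h' := h j hj r hr
  have hb : Nat.ble 120 r = true := by simpa using hp
  rw [hb] at h'
  cases ht : tgt j r with
  | none => simp [ht] at h'; exact Or.inl ⟨rfl, h'⟩
  | some u => simp [ht] at h'; exact Or.inr ⟨u, rfl, h'.1, h'.2⟩

theorem raise_self {j : ℕ} (hj : j < 8) : tgt j (chevE8.simple j) = none := by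
  revert j
  decide +kernel

/-- the commutator of `x` with a fundamental root element -/
noncomputable def cm (j : ℕ) (x : GL chevE8.Idx K) : GL chevE8.Idx K :=
  (xr (chevE8.simple j))⁻¹ * x * xr (chevE8.simple j) * x⁻¹

theorem vec_cm {j : ℕ} (hj : j < 8) {m : ℤ} (hm : 1 ≤ m) {x : GL chevE8.Idx K}
    (hx : x ∈ XS chevE8 K (htGe chevE8 m)) :
    ∃ d, Vec m x d ∧ Vec (m + 1) (cm j x) (Lmap j d) := by
  have hj' : j < chevE8.rank := by rw [top_root.2.2.2.2.2]; exact hj
  have hp := hG.simple_lt hj'
  have hgU : xr (chevE8.simple j) ∈ XS chevE8 K (htGe chevE8 1) :=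
    xg_mem_XS hp (show 1 ≤ ht chevE8 (chevE8.simple j) by rw [hG.ht_simple hj']) 1
  have hUm : ∀ {y}, y ∈ XS chevE8 K (htGe chevE8 m) → y ∈ XS chevE8 K (htGe chevE8 1) :=
    fun h => XS_mono (fun r (hr : m ≤ ht chevE8 r) => show 1 ≤ ht chevE8 r by omega) h
  have hL0 : Lmap j (fun _ => (0 : K)) = fun _ => 0 := by
    funext u
    simp only [Lmap]
    cases pre j u with
    | none => rfl
    | some r => simp
  induction hx using Subgroup.closure_induction with
  | one =>
    refine ⟨fun _ => 0, vec_of_next hU (one_mem _), ?_⟩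
    rw [hL0]
    exact vec_of_next hU (by simp [cm])
  | mul a b ha hb iha ihb =>
    obtain ⟨d, hd, hd'⟩ := iha
    obtain ⟨e, he, he'⟩ := ihb
    refine ⟨d + e, hd.mul hU hm he, ?_⟩
    rw [Lmap_add, show cm j (a * b) = cm j a * (a * cm j b * a⁻¹) by simp only [cm]; group]
    exact hd'.mul hU (by omega) (he'.conj hU (by omega) (hUm ha))
  | inv a ha iha =>
    obtain ⟨d, hd, hd'⟩ := iha
    refine ⟨-d, hd.inv hU hm, ?_⟩
    have hneg : Lmap j (-d) = -Lmap j d := by
      refine eq_neg_of_add_eq_zero_left ?_
      rw [← Lmap_add, neg_add_cancel]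
      exact hL0
    rw [hneg, show cm j a⁻¹ = a⁻¹ * (cm j a)⁻¹ * a⁻¹⁻¹ by simp only [cm]; group]
    exact (hd'.inv hU (by omega)).conj hU (by omega) (inv_mem (hUm ha))
  | mem y hy =>
    obtain ⟨s, t, hs, hms, rfl⟩ := hy
    have hms' : m ≤ ht chevE8 s := hms
    by_cases heq : ht chevE8 s = m
    · refine ⟨Pi.single s t, heq ▸ vec_xg hU hs (by omega) t, ?_⟩
      have hs120 : 120 ≤ s := (pos_iff hs).2 (by omega)
      have hne2 : s ≠ chevE8.neg (chevE8.simple j) := fun e => by
        have := hG.ht_neg hp
        rw [← e, hG.ht_simple hj'] at this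
        omega
      rcases raise_facts hj hs hs120 with ⟨hn, hW⟩ | ⟨u, hu, hW, hpre⟩
      · have hc : cm j (xg chevE8 K s t) = 1 := by
          by_cases e : s = chevE8.simple j
          · subst e
            simp only [cm, xr, hG.xg_inv, ← hG.xg_add]
            rw [show -(1 : K) + t + 1 + -t = 0 by ring, hG.xg_zero]
          · have hw : wordG chevE8 K (chevE8.commWord K (chevE8.simple j) s 1 t) = 1 :=
              wordG_nil hW _ _
            have hh := hC.xg_comm hp hs e hne2 (1 : K) t
            rw [hw, mul_one] at hh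
            simp only [cm, xr]
            rw [mul_assoc _ (xg chevE8 K s t), hh]
            group
        have hL : Lmap j (Pi.single s t) = fun _ => 0 := by
          funext v
          simp only [Lmap]
          cases pre j v with
          | none => rfl
          | some r =>
            by_cases e : r = s
            · subst e; simp [hn]
            · simp [Pi.single_eq_of_ne e]
        rw [hL, hc]
        exact vec_of_next hU (one_mem _)
      · obtain ⟨z, hz0, -⟩ := singleB_elim hW
        have hz : (u, z, 1, 1) ∈ commW (std chevE8) (chevE8.simple j) s := by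
          rw [hz0]; exact List.mem_singleton_self _
        have hu' : u < chevE8.nroots := (hG.commTerms_coef hp hs hz).1
        have hht : ht chevE8 u = m + 1 := by
          have h := hG.commTerms_ht hp hs hz
          rw [hG.ht_simple hj', heq] at h
          dsimp only at h
          simp only [Nat.cast_one, one_mul] at h
          omega
        have hne1 : s ≠ chevE8.simple j := fun e => by
          subst e
          rw [raise_self hj] at hu
          simp at hu
        have hc : cm j (xg chevE8 K s t) = xg chevE8 K s t * xg chevE8 K u t * (xg chevE8 K s t)⁻¹ := by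
          simp only [cm]
          rw [word_single hp hs hne1 hne2 hW]
        have hL : Lmap j (Pi.single s t) = Pi.single u t := by
          funext v
          simp only [Lmap]
          by_cases e : v = u
          · subst e; simp [hpre, hu, hs, hs120]
          · cases hv : pre j v with
            | none => simp [Pi.single_eq_of_ne e]
            | some r =>
              by_cases e' : r = s
              · subst e'; simp [hu, Pi.single_eq_of_ne e, Ne.symm e]
              · simp [Pi.single_eq_of_ne e', Pi.single_eq_of_ne e]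
        rw [hL, hc]
        exact (hht ▸ vec_xg hU hu' (by omega) t).conj hU (by omega)
          (hUm (xg_mem_XS hs hms t))
    · have hx1 : xg chevE8 K s t ∈ XS chevE8 K (htGe chevE8 (m + 1)) :=
        xg_mem_XS hs (show m + 1 ≤ ht chevE8 s by omega) t
      refine ⟨fun _ => 0, vec_of_next hU hx1, ?_⟩
      rw [hL0]
      exact vec_of_next hU (hU.conj_congr (by omega) hgU hs (by omega) t)

/-- A non-trivial subgroup of the parabolic, normalised by it, contains the highest root element. -/
theorem top_mem (N : Subgroup (GL chevE8.Idx K)) (hle : N ≤ Par)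
    (hn : ∀ p ∈ Par, ∀ x ∈ N, p * x * p⁻¹ ∈ N) {x : GL chevE8.Idx K} (hx : x ∈ N) (h1 : x ≠ 1) :
    xr 239 ∈ N := by
  have hs := chkSupp_of_mem mem_data
  have hgrp : Par ≤ chevE8.group K :=
    (normalizer_radical_mem (F := K) mem_data JJ).ge.trans inf_le_right
  have hrad : chevE8.unipotentRadical K JJ ≤ XS chevE8 K (htGe chevE8 1) := by
    rw [hG.unipotentRadical_eq hs]
    exact XS_mono fun r hr => hr.1
  have hradP : chevE8.unipotentRadical K JJ ≤ Par := by
    rw [hG.unipotentRadical_eq hs]
    exact XS_le fun r t hr h => (le_sup_left : chevE8.borelSubgroup K ≤ Par) (hG.xg_mem_borel hr h.1 t)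
  have start : ∃ y ∈ N, y ∈ XS chevE8 K (htGe chevE8 1) ∧ y ≠ 1 := by
    by_cases hc : ∀ y ∈ chevE8.unipotentRadical K JJ, x * y = y * x
    · exact ⟨x, hx, centralizer_radical_le hU mem_data JJ ⟨node, node_lt, fun h => h rfl⟩
        (hgrp (hle hx)) hc, h1⟩
    · push_neg at hc
      obtain ⟨y, hy, hne⟩ := hc
      refine ⟨x * (y * x⁻¹ * y⁻¹), mul_mem hx (hn y (hradP hy) _ (inv_mem hx)), hrad ?_, fun e => ?_⟩
      · rw [show x * (y * x⁻¹ * y⁻¹) = x * y * x⁻¹ * y⁻¹ by group]
        exact mul_mem ((Subgroup.mem_normalizer_iff.1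
          (hC.parabolic_le_normalizer hs JJ (hle hx)) _).1 hy) (inv_mem hy)
      · apply hne
        calc x * y = x * (y * x⁻¹ * y⁻¹) * (y * x) := by group
          _ = y * x := by rw [e, one_mul]
  suffices H : ∀ (n : ℕ) (m : ℤ) (y : GL chevE8.Idx K), 1 ≤ m → maxHt chevE8 + 1 - m ≤ n → y ∈ N →
      y ∈ XS chevE8 K (htGe chevE8 m) → y ≠ 1 → xr 239 ∈ N by
    obtain ⟨y, hy, hyU, hy1⟩ := start
    exact H (maxHt chevE8).toNat 1 y le_rfl (by have := Int.self_le_toNat (maxHt chevE8); omega)
      hy hyU hy1
  intro n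
  induction n with
  | zero =>
    intro m y hm hb _ hyU hy1
    rw [hU.htGe_eq_bot (F := K) (m := m) (by omega), Subgroup.mem_bot] at hyU
    exact absurd hyU hy1
  | succ n ih =>
    intro m y hm hb hyN hyU hy1
    obtain ⟨d, hd⟩ := exists_vec hU hm hyU
    by_cases hall : ∀ r, d r = 0
    · refine ih (m + 1) y (by omega) (by omega) hyN ?_ hy1
      have := hd.2
      rwa [show d = fun _ => (0 : K) from funext hall, prodL_zero hU, inv_one, one_mul] at this
    push_neg at hall
    by_cases hsup : ∀ r, d r ≠ 0 → r = 239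
    · obtain ⟨r, hr⟩ := hall
      obtain rfl := hsup r hr
      obtain ⟨hr', hm'⟩ := hd.1 _ hr
      have hd1 : d = Pi.single 239 1 := by
        funext s
        by_cases e : s = 239
        · subst e; rw [Pi.single_eq_same]; exact zmod_two_one hr
        · rw [Pi.single_eq_of_ne e]
          by_contra hne
          exact e (hsup s hne)
      have := hd.2
      rw [hd1, hU.prodL_single posL_nodup ((mem_posL' hU 239).2 ⟨hr', by omega⟩),
        hU.htGe_eq_bot (F := K) (m := m + 1) (by rw [← top_root.2.2.2.2.1, hm']; omega),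
        Subgroup.mem_bot, inv_mul_eq_one] at this
      rwa [← this] at hyN
    push_neg at hsup
    obtain ⟨r, hr, hr239⟩ := hsup
    obtain ⟨hrl, hrm⟩ := hd.1 _ hr
    have hr120 : 120 ≤ r := (pos_iff hrl).2 (by omega)
    have hl := lift_ok
    simp only [liftB, kallUpTo_iff] at hl
    have hl' := hl r hrl
    rw [show Nat.ble 120 r = true from Nat.ble_eq ▸ hr120, nat_beq_false hr239, Bool.not_true,
      Bool.false_or, Bool.false_or, kanyUpTo_iff] at hl'
    obtain ⟨j, hj, hjs⟩ := hl'
    have hj' : j < chevE8.rank := by rw [top_root.2.2.2.2.2]; exact hj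
    obtain ⟨d', hd', hdc⟩ := vec_cm hj hm hyU
    obtain rfl := hd.unique hU hm hd'
    have hp := hG.simple_lt hj'
    have hgP : xr (chevE8.simple j) ∈ Par :=
      (le_sup_left : chevE8.borelSubgroup K ≤ Par)
        (hG.xg_mem_borel hp (by rw [hG.ht_simple hj']) 1)
    have hcN : cm j y ∈ N := by
      have := hn _ (inv_mem hgP) y hyN
      rw [inv_inv] at this
      exact mul_mem this (inv_mem hyN)
    refine ih (m + 1) (cm j y) (by omega) (by omega) hcN (hdc.mem hU) fun e => ?_
    obtain ⟨u, hu, -, hpre⟩ : ∃ u, tgt j r = some u ∧ singleB u (commW (std chevE8) (chevE8.simple j) r) = true ∧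
        pre j u = some r := by
      rcases raise_facts hj hrl hr120 with ⟨hn', -⟩ | h
      · rw [hn'] at hjs; simp at hjs
      · exact h
    have := congrFun (hdc.unique hU (by omega) (e ▸ vec_of_next hU (one_mem _))) u
    simp [Lmap, hpre, hu, hrl, hr120] at this
    exact hr this

end Cfsg.Agent.CoreChain59
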